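import Mathlib
import Groth.Agent.Lib.Helper24.LocalCritPow

/-!
# Unramified / étale local homomorphisms in terms of the truncations `A → B ⧸ 𝔪_B ^ n`

For a local homomorphism `φ : A → B` of local rings:

* `surjective_mk_pow_comp`: if `𝔪_A B = 𝔪_B` and the residue field map is surjective then
  `A → B ⧸ 𝔪_B ^ n` is surjective for all `n`;
* `map_maximalIdeal_eq_of_surjective_sq`: conversely (B Noetherian) surjectivity for `n = 2`
  gives `𝔪_A B = 𝔪_B` and surjectivity on residue fields;
* `formallyUnramified_iff_forall_surjective`: the unramified criterion (EGA IV 17.4.4 f'');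
* `flat_of_forall_ker_eq`: if moreover `ker (A → B ⧸ 𝔪_B ^ n) = 𝔪_A ^ n` for all `n` then `φ` is
  flat (local criterion of flatness);
* `ker_mk_pow_comp_of_flat`: converse for the kernels.
-/

set_option autoImplicit false
universe u

open IsLocalRing TensorProduct

namespace Groth.Agent.Lib.Helper19

section

variable {A B : Type*} [CommRing A] [CommRing B] [IsLocalRing A] [IsLocalRing B]
  (φ : A →+* B)

lemma exists_sub_mem_maximalIdeal_of_residue_surjective [IsLocalHom φ]
    (hres : Function.Surjective (ResidueField.map φ)) (r : B) :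
    ∃ s : A, r - φ s ∈ maximalIdeal B := by
  obtain ⟨x, hx⟩ := hres (residue B r)
  obtain ⟨s, rfl⟩ := residue_surjective x
  refine ⟨s, ?_⟩
  rw [ResidueField.map_residue] at hx
  have := (Ideal.Quotient.eq (I := maximalIdeal B)).mp hx
  have h2 := neg_mem this
  rwa [neg_sub] at h2

lemma map_pow_maximalIdeal_le [IsLocalHom φ] (n : ℕ) :
    (maximalIdeal A ^ n).map φ ≤ maximalIdeal B ^ n := by
  rw [Ideal.map_pow]
  exact Ideal.pow_right_mono (((local_hom_TFAE φ).out 0 2 rfl rfl).mp ‹_›) n

lemma exists_sub_mem_pow_succ [IsLocalHom φ]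
    (hm : (maximalIdeal A).map φ = maximalIdeal B)
    (hres : Function.Surjective (ResidueField.map φ)) (n : ℕ) (z : B)
    (hz : z ∈ maximalIdeal B ^ n) :
    ∃ a ∈ maximalIdeal A ^ n, z - φ a ∈ maximalIdeal B ^ (n + 1) := by
  rw [← hm, ← Ideal.map_pow] at hz
  induction hz using Submodule.span_induction with
  | mem x h =>
    obtain ⟨c, hc, rfl⟩ := h
    exact ⟨c, hc, by simp⟩
  | zero => exact ⟨0, zero_mem _, by simp⟩
  | add x y _ _ hx hy =>
    obtain ⟨a, ha, ha'⟩ := hx
    obtain ⟨b, hb, hb'⟩ := hy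
    refine ⟨a + b, add_mem ha hb, ?_⟩
    have : x + y - φ (a + b) = (x - φ a) + (y - φ b) := by rw [map_add]; ring
    rw [this]
    exact add_mem ha' hb'
  | smul r x _ hx =>
    obtain ⟨a, ha, ha'⟩ := hx
    obtain ⟨s, hs⟩ := exists_sub_mem_maximalIdeal_of_residue_surjective φ hres r
    refine ⟨s * a, Ideal.mul_mem_left _ _ ha, ?_⟩
    have : r • x - φ (s * a) = r * (x - φ a) + (r - φ s) * φ a := by
      rw [map_mul, smul_eq_mul]; ring
    rw [this]
    refine add_mem (Ideal.mul_mem_left _ _ ha') ?_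
    rw [pow_succ']
    exact Ideal.mul_mem_mul hs (map_pow_maximalIdeal_le φ n (Ideal.mem_map_of_mem φ ha))

lemma exists_sub_mem_pow [IsLocalHom φ]
    (hm : (maximalIdeal A).map φ = maximalIdeal B)
    (hres : Function.Surjective (ResidueField.map φ)) (n : ℕ) (b : B) :
    ∃ a : A, b - φ a ∈ maximalIdeal B ^ n := by
  induction n with
  | zero => exact ⟨0, by simp⟩
  | succ n ih =>
    obtain ⟨a, ha⟩ := ih
    obtain ⟨a', -, ha'⟩ := exists_sub_mem_pow_succ φ hm hres n _ ha
    refine ⟨a + a', ?_⟩
    have : b - φ (a + a') = b - φ a - φ a' := by rw [map_add]; ring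
    rwa [this]

/-- If `𝔪_A B = 𝔪_B` and the residue field extension is trivial then `A → B ⧸ 𝔪_B ^ n` is
surjective for all `n`. -/
theorem surjective_mk_pow_comp [IsLocalHom φ]
    (hm : (maximalIdeal A).map φ = maximalIdeal B)
    (hres : Function.Surjective (ResidueField.map φ)) (n : ℕ) :
    Function.Surjective ((Ideal.Quotient.mk (maximalIdeal B ^ n)).comp φ) := by
  intro y
  obtain ⟨b, rfl⟩ := Ideal.Quotient.mk_surjective y
  obtain ⟨a, ha⟩ := exists_sub_mem_pow φ hm hres n b
  refine ⟨a, ?_⟩
  rw [RingHom.comp_apply]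
  exact ((Ideal.Quotient.eq).mpr ha).symm

/-- Surjectivity of `A → B ⧸ 𝔪_B ^ 2` forces `𝔪_A B = 𝔪_B` and surjectivity on residue fields. -/
theorem map_maximalIdeal_eq_of_surjective_sq [IsLocalHom φ] [IsNoetherianRing B]
    (h2 : Function.Surjective ((Ideal.Quotient.mk (maximalIdeal B ^ 2)).comp φ)) :
    (maximalIdeal A).map φ = maximalIdeal B ∧ Function.Surjective (ResidueField.map φ) := by
  have key : ∀ b : B, ∃ a : A, b - φ a ∈ maximalIdeal B ^ 2 := by
    intro b
    obtain ⟨a, ha⟩ := h2 (Ideal.Quotient.mk _ b)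
    rw [RingHom.comp_apply] at ha
    exact ⟨a, (Ideal.Quotient.eq).mp ha.symm⟩
  have hle : maximalIdeal B ^ 2 ≤ maximalIdeal B := Ideal.pow_le_self two_ne_zero
  refine ⟨le_antisymm (((local_hom_TFAE φ).out 0 2 rfl rfl).mp ‹_›) ?_, ?_⟩
  · refine Submodule.le_of_le_smul_of_le_jacobson_bot (I := maximalIdeal B)
      (IsNoetherian.noetherian _) (jacobson_eq_maximalIdeal ⊥ bot_ne_top).ge ?_
    intro b hb
    obtain ⟨a, ha⟩ := key b
    have ha' : φ a ∈ maximalIdeal B := by
      have := sub_mem hb (hle ha)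
      rwa [sub_sub_cancel] at this
    have haA : a ∈ maximalIdeal A := by
      rw [mem_maximalIdeal, mem_nonunits_iff] at ha' ⊢
      exact fun hu => ha' (hu.map φ)
    have : b = φ a + (b - φ a) := by ring
    rw [this]
    refine Submodule.add_mem_sup (Ideal.mem_map_of_mem φ haA) ?_
    rwa [smul_eq_mul, ← pow_two]
  · intro y
    obtain ⟨b, rfl⟩ := residue_surjective y
    obtain ⟨a, ha⟩ := key b
    refine ⟨residue A a, ?_⟩
    rw [ResidueField.map_residue]
    exact ((Ideal.Quotient.eq).mpr (hle ha)).symm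

end

section

variable {A B : Type u} [CommRing A] [CommRing B] [IsLocalRing A] [IsLocalRing B]
  (φ : A →+* B)

/-- EGA IV 17.4.4 f''): a local homomorphism essentially of finite type of local rings with
Noetherian target, such that the residue field extension is trivial or the residue field of the
source is separably closed, is formally unramified iff `A → B ⧸ 𝔪_B ^ n` is surjective for all
`n`. -/
theorem formallyUnramified_iff_forall_surjective [IsLocalHom φ] [IsNoetherianRing B]
    (hess : φ.EssFiniteType)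
    (hk : Function.Surjective (ResidueField.map φ) ∨ IsSepClosed (ResidueField A)) :
    φ.FormallyUnramified ↔
      ∀ n : ℕ, Function.Surjective ((Ideal.Quotient.mk (maximalIdeal B ^ n)).comp φ) := by
  algebraize [φ]
  have hloc : IsLocalHom (algebraMap A B) := ‹IsLocalHom φ›
  constructor
  · intro hu n
    have hu' : Algebra.FormallyUnramified A B := hu
    have hm : (maximalIdeal A).map φ = maximalIdeal B :=
      Algebra.FormallyUnramified.map_maximalIdeal (R := A) (S := B)
    have hres : Function.Surjective (ResidueField.map φ) := by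
      rcases hk with hk | hk
      · exact hk
      · exact IsSepClosed.algebraMap_surjective (ResidueField A) (ResidueField B)
    exact surjective_mk_pow_comp φ hm hres n
  · intro h
    obtain ⟨hm, hres⟩ := map_maximalIdeal_eq_of_surjective_sq φ (h 2)
    have hsep : Algebra.IsSeparable (ResidueField A) (ResidueField B) := by
      have : Function.Surjective (algebraMap (ResidueField A) (ResidueField B)) := hres
      refine ⟨fun y => ?_⟩
      obtain ⟨x, rfl⟩ := this y
      exact isSeparable_algebraMap x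
    exact Algebra.FormallyUnramified.of_map_maximalIdeal (R := A) (S := B) hm

/-- If `φ` is flat and `𝔪_A B = 𝔪_B` then the kernel of `A → B ⧸ 𝔪_B ^ n` is `𝔪_A ^ n`. -/
theorem ker_mk_pow_comp_of_flat [IsLocalHom φ] (hflat : φ.Flat)
    (hm : (maximalIdeal A).map φ = maximalIdeal B) (n : ℕ) :
    RingHom.ker ((Ideal.Quotient.mk (maximalIdeal B ^ n)).comp φ) = maximalIdeal A ^ n := by
  algebraize [φ]
  have hloc : IsLocalHom (algebraMap A B) := ‹IsLocalHom φ›
  have : Module.Flat A B := hflat
  have : Module.FaithfullyFlat A B := Module.FaithfullyFlat.of_flat_of_isLocalHom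
  rw [← RingHom.comap_ker, Ideal.mk_ker, ← hm, ← Ideal.map_pow]
  exact Ideal.comap_map_eq_self_of_faithfullyFlat (B := B) (maximalIdeal A ^ n)

/-- Local criterion of flatness in the form: if `𝔪_A B = 𝔪_B` and `A ⧸ 𝔪_A ^ n → B ⧸ 𝔪_B ^ n` is
bijective for all `n` then `φ` is flat. -/
theorem flat_of_forall_ker_eq [IsLocalHom φ] [IsNoetherianRing A] [IsNoetherianRing B]
    (hm : (maximalIdeal A).map φ = maximalIdeal B)
    (hsurj : ∀ n : ℕ, Function.Surjective ((Ideal.Quotient.mk (maximalIdeal B ^ n)).comp φ))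
    (hker : ∀ n : ℕ,
      RingHom.ker ((Ideal.Quotient.mk (maximalIdeal B ^ n)).comp φ) = maximalIdeal A ^ n) :
    φ.Flat := by
  algebraize [φ]
  have hloc : IsLocalHom (algebraMap A B) := ‹IsLocalHom φ›
  change Module.Flat A B
  refine Groth.Agent.Lib.Helper24.LocalCritPow.flat_of_forall_flat_quotient_pow A B B
    (maximalIdeal A) ?_ ?_
  · rw [jacobson_eq_maximalIdeal ⊥ bot_ne_top]
    exact hm.le
  · intro n _
    set I := maximalIdeal A ^ n with hI
    have hIB : I.map (algebraMap A B) = maximalIdeal B ^ n := by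
      rw [hI, Ideal.map_pow]
      exact congr($hm ^ n)
    have hbij : Function.Bijective (algebraMap (A ⧸ I) (B ⧸ I.map (algebraMap A B))) := by
      constructor
      · rw [injective_iff_map_eq_zero]
        intro x hx
        obtain ⟨a, rfl⟩ := Ideal.Quotient.mk_surjective x
        have hx' : Ideal.Quotient.mk (I.map (algebraMap A B)) (algebraMap A B a) = 0 := hx
        rw [Ideal.Quotient.eq_zero_iff_mem, hIB] at hx'
        have : a ∈ RingHom.ker ((Ideal.Quotient.mk (maximalIdeal B ^ n)).comp φ) := by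
          rw [RingHom.mem_ker, RingHom.comp_apply, Ideal.Quotient.eq_zero_iff_mem]
          exact hx'
        rw [hker n] at this
        exact Ideal.Quotient.eq_zero_iff_mem.mpr this
      · intro y
        obtain ⟨b, rfl⟩ := Ideal.Quotient.mk_surjective y
        obtain ⟨a, ha⟩ := hsurj n (Ideal.Quotient.mk _ b)
        refine ⟨Ideal.Quotient.mk I a, ?_⟩
        rw [RingHom.comp_apply, Ideal.Quotient.eq, ← hIB] at ha
        exact (Ideal.Quotient.eq).mpr ha
    let e₁ : (A ⧸ I) ≃ₗ[A ⧸ I] (B ⧸ I.map (algebraMap A B)) :=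
      LinearEquiv.ofBijective (Algebra.linearMap (A ⧸ I) (B ⧸ I.map (algebraMap A B))) hbij
    let e₂ : (B ⧸ I.map (algebraMap A B)) ≃ₗ[A ⧸ I] (A ⧸ I) ⊗[A] B :=
      (Algebra.TensorProduct.quotIdealMapEquivQuotTensor B I).toLinearEquiv
    exact Module.Flat.of_linearEquiv (e₁ ≪≫ₗ e₂).symm

end

end Groth.Agent.Lib.Helper19
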