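import Mathlib
import Groth.Agent.Lib.Helper19.Compl.QuotPow
import Groth.Agent.Lib.Helper19.StalkCriteria
import Groth.Agent.Lib.Helper19.EtalePointwise

/-!
# Unramified / étale near a point in terms of truncated local rings (EGA IV 17.4.4, 17.6.3)
-/

set_option autoImplicit false
universe u

open CategoryTheory AlgebraicGeometry IsLocalRing

namespace Groth.Agent.Lib.Helper19

/-- EGA IV 17.4.4 f''). -/
theorem exists_nhd_formallyUnramified_iff_forall_surjective {X Y : Scheme.{u}} (f : X ⟶ Y)
    [LocallyOfFiniteType f] [IsLocallyNoetherian Y] (x : X)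
    (hk : Function.Surjective (f.residueFieldMap x) ∨ IsSepClosed (Y.residueField (f.base x))) :
    (∃ U : X.Opens, x ∈ U ∧ FormallyUnramified (U.ι ≫ f)) ↔
      ∀ n : ℕ, Function.Surjective
        ((Ideal.Quotient.mk (maximalIdeal (X.presheaf.stalk x) ^ n)).comp
          (f.stalkMap x).hom) := by
  have : IsLocallyNoetherian X := LocallyOfFiniteType.isLocallyNoetherian f
  have hk' : Function.Surjective (ResidueField.map (f.stalkMap x).hom) ∨
      IsSepClosed (ResidueField (Y.presheaf.stalk (f x))) := hk
  rw [← formallyUnramified_iff_forall_surjective (f.stalkMap x).hom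
    (LocallyOfFiniteType.stalkMap f x) hk']
  exact ⟨formallyUnramified_stalkMap_of_nhd f x, exists_nhd_formallyUnramified_of_stalkMap f x⟩

/-- EGA IV 17.6.3 e''). -/
theorem exists_nhd_etale_iff_forall_bijective {X Y : Scheme.{u}} (f : X ⟶ Y)
    [LocallyOfFiniteType f] [IsLocallyNoetherian Y] (x : X)
    (hk : Function.Surjective (f.residueFieldMap x) ∨ IsAlgClosed (Y.residueField (f.base x))) :
    (∃ U : X.Opens, x ∈ U ∧ Etale (U.ι ≫ f)) ↔
      ∀ n : ℕ, Function.Surjective
          ((Ideal.Quotient.mk (maximalIdeal (X.presheaf.stalk x) ^ n)).comp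
            (f.stalkMap x).hom) ∧
        RingHom.ker ((Ideal.Quotient.mk (maximalIdeal (X.presheaf.stalk x) ^ n)).comp
            (f.stalkMap x).hom) =
          maximalIdeal (Y.presheaf.stalk (f.base x)) ^ n := by
  have : IsLocallyNoetherian X := LocallyOfFiniteType.isLocallyNoetherian f
  have hk' : Function.Surjective (ResidueField.map (f.stalkMap x).hom) ∨
      IsSepClosed (ResidueField (Y.presheaf.stalk (f x))) := by
    rcases hk with hk | hk
    · exact Or.inl hk
    · have : IsAlgClosed (ResidueField (Y.presheaf.stalk (f x))) := hk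
      exact Or.inr inferInstance
  have hess := LocallyOfFiniteType.stalkMap f x
  constructor
  · rintro ⟨U, hxU, hU⟩
    have hunr : (f.stalkMap x).hom.FormallyUnramified :=
      formallyUnramified_stalkMap_of_nhd f x ⟨U, hxU, inferInstance⟩
    have hsurj := (formallyUnramified_iff_forall_surjective (f.stalkMap x).hom hess hk').mp hunr
    obtain ⟨hm, -⟩ := map_maximalIdeal_eq_of_surjective_sq (f.stalkMap x).hom (hsurj 2)
    have hflat : (f.stalkMap x).hom.Flat := by
      let xU : U.toScheme := ⟨x, hxU⟩
      have h1 := Flat.stalkMap (U.ι ≫ f) xU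
      rw [Scheme.Hom.stalkMap_comp] at h1
      have hiso : IsIso (U.ι.stalkMap xU) := inferInstance
      exact (RingHom.Flat.respectsIso.cancel_right_isIso (f.stalkMap (U.ι xU))
        (U.ι.stalkMap xU)).mp h1
    exact fun n => ⟨hsurj n, ker_mk_pow_comp_of_flat (f.stalkMap x).hom hflat hm n⟩
  · intro h
    have hsurj := fun n => (h n).1
    have hunr := (formallyUnramified_iff_forall_surjective (f.stalkMap x).hom hess hk').mpr hsurj
    obtain ⟨hm, -⟩ := map_maximalIdeal_eq_of_surjective_sq (f.stalkMap x).hom (hsurj 2)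
    have hflat := flat_of_forall_ker_eq (f.stalkMap x).hom hm hsurj (fun n => (h n).2)
    exact exists_nhd_etale_of_flat_stalkMap f x
      (exists_nhd_formallyUnramified_of_stalkMap f x hunr) hflat

end Groth.Agent.Lib.Helper19
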